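import Mathlib
import Groth.Agent.OrdVal.QuasiRegular

set_option autoImplicit false
set_option backward.isDefEq.respectTransparency false
universe u
open IsLocalRing MvPolynomial

namespace Groth.Agent.OrdVal

variable (A : Type u) [CommRing A] [IsRegularLocalRing A]

/-- `z = a / b` with `ord b = n ≤ ord a`. -/
def Mem (z : FractionRing A) : Prop :=
  ∃ (n : ℕ) (a b : A), a ∈ maximalIdeal A ^ n ∧ b ∈ maximalIdeal A ^ n ∧ b ∉ maximalIdeal A ^ (n + 1) ∧
    z * algebraMap A (FractionRing A) b = algebraMap A (FractionRing A) a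

variable {A}

theorem mem_algebraMap (a : A) : Mem A (algebraMap A (FractionRing A) a) :=
  ⟨0, a, 1, by simp, by simp, by simpa using (maximalIdeal.isMaximal A).ne_top ∘ (Ideal.eq_top_iff_one _).mpr,
    by simp⟩

theorem mem_mul {z w : FractionRing A} (hz : Mem A z) (hw : Mem A w) : Mem A (z * w) := by
  obtain ⟨n, a, b, ha, hb, hb', e⟩ := hz
  obtain ⟨n', a', b', ha', hb1, hb2, e'⟩ := hw
  exact ⟨n + n', a * a', b * b', pow_add (maximalIdeal A) n n' ▸ Ideal.mul_mem_mul ha ha',
    pow_add (maximalIdeal A) n n' ▸ Ideal.mul_mem_mul hb hb1, mul_notMem_pow hb hb' hb1 hb2,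
    by rw [map_mul, map_mul, ← e, ← e']; ring⟩

theorem mem_add {z w : FractionRing A} (hz : Mem A z) (hw : Mem A w) : Mem A (z + w) := by
  obtain ⟨n, a, b, ha, hb, hb', e⟩ := hz
  obtain ⟨n', a', b', ha', hb1, hb2, e'⟩ := hw
  refine ⟨n + n', a * b' + b * a', b * b', ?_, pow_add (maximalIdeal A) n n' ▸ Ideal.mul_mem_mul hb hb1,
    mul_notMem_pow hb hb' hb1 hb2, by simp only [map_mul, map_add, ← e, ← e']; ring⟩
  rw [pow_add]
  exact Ideal.add_mem _ (Ideal.mul_mem_mul ha hb1) (Ideal.mul_mem_mul hb ha')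

variable (A)

/-- The valuation ring of the order valuation. -/
def ring : Subalgebra A (FractionRing A) where
  carrier := {z | Mem A z}
  mul_mem' := mem_mul
  add_mem' := mem_add
  algebraMap_mem' := mem_algebraMap

variable {A}

theorem mem_ring {z : FractionRing A} : z ∈ ring A ↔ Mem A z := Iff.rfl

theorem exists_ord {a : A} (ha : a ≠ 0) :
    ∃ N, a ∈ maximalIdeal A ^ N ∧ a ∉ maximalIdeal A ^ (N + 1) := by
  classical
  have h : ∃ N, a ∉ maximalIdeal A ^ N := by
    by_contra h
    push Not at h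
    have : a ∈ ⨅ i : ℕ, maximalIdeal A ^ i := Ideal.mem_iInf.mpr h
    rw [Ideal.iInf_pow_eq_bot_of_isLocalRing _ (maximalIdeal.isMaximal A).ne_top] at this
    exact ha this
  have h0 : Nat.find h ≠ 0 := fun h0 => Nat.find_spec h (by rw [h0]; simp)
  refine ⟨Nat.find h - 1, ?_, ?_⟩
  · exact not_not.mp (Nat.find_min h (by omega))
  · rw [Nat.sub_add_cancel (by omega)]; exact Nat.find_spec h

theorem ord_le {k j : ℕ} {b : A} (hb : b ∈ maximalIdeal A ^ j) (hb' : b ∉ maximalIdeal A ^ (k + 1)) :
    j ≤ k := by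
  by_contra h
  exact hb' (Ideal.pow_le_pow_right (by omega) hb)

section
variable [IsDomain A]

theorem algebraMap_ne {b : A} {n : ℕ} (hb : b ∉ maximalIdeal A ^ n) :
    algebraMap A (FractionRing A) b ≠ 0 := fun h => hb (by
  rw [(IsFractionRing.injective A (FractionRing A)) (h.trans (map_zero _).symm)]
  exact Ideal.zero_mem _)

theorem isUnit_of {z : ring A} {n : ℕ} {a b : A} (hb : b ∈ maximalIdeal A ^ n)
    (hb' : b ∉ maximalIdeal A ^ (n + 1)) (ha : a ∈ maximalIdeal A ^ n)
    (ha' : a ∉ maximalIdeal A ^ (n + 1))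
    (h : (z : FractionRing A) * algebraMap A _ b = algebraMap A _ a) : IsUnit z := by
  have ha0 := algebraMap_ne ha'
  refine isUnit_iff_exists_inv.mpr ⟨⟨algebraMap A _ b / algebraMap A _ a, n, b, a, hb, ha, ha',
    div_mul_cancel₀ _ ha0⟩, Subtype.ext ?_⟩
  show (z : FractionRing A) * _ = 1
  rw [← mul_div_assoc, h, div_self ha0]

/-- Everything about the order valuation ring. -/
theorem main (hA : ¬ IsField A) :
    ∃ (_ : IsDomain (ring A)) (_ : IsDiscreteValuationRing (ring A)),
      IsFractionRing (ring A) (FractionRing A) ∧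
      (maximalIdeal (ring A)).comap (algebraMap A (ring A)) = maximalIdeal A ∧
      ∃ (φ : ResidueField A →+* ResidueField (ring A)),
        φ.comp (residue A) = (residue (ring A)).comp (algebraMap A (ring A)) ∧
        letI := φ.toAlgebra
        ∃ (ι : Type u) (t : ι → ResidueField (ring A)), AlgebraicIndependent (ResidueField A) t ∧
          IntermediateField.adjoin (ResidueField A) (Set.range t) = ⊤ := by
  classical
  obtain ⟨l, hl, hgen⟩ := RegularLocal.Basic.exists_list_of_fg
    (IsNoetherian.noetherian (maximalIdeal A))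
  let x : Fin l.length → A := l.get
  have hspan : Ideal.span (Set.range x) = maximalIdeal A := by
    rw [← hgen]; simp [x, Ideal.ofList, Set.range_list_get]
  have hxm : ∀ i, x i ∈ maximalIdeal A := fun i => hspan ▸ Ideal.subset_span ⟨i, rfl⟩
  have hd : 0 < l.length := by
    by_contra h
    apply hA
    rw [IsLocalRing.isField_iff_maximalIdeal_eq, ← hgen]
    obtain rfl : l = [] := List.length_eq_zero_iff.mp (by omega)
    simp
  let i₀ : Fin l.length := ⟨0, hd⟩
  have hqr : ∀ {n : ℕ} (F : MvPolynomial (Fin l.length) A), F.IsHomogeneous n →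
      eval x F ∈ maximalIdeal A ^ (n + 1) → ∀ m, F.coeff m ∈ maximalIdeal A :=
    fun {n} F hF he => coeff_mem _ A x hspan hl.symm n F hF he
  have hx0 : x i₀ ∈ maximalIdeal A ^ 1 ∧ x i₀ ∉ maximalIdeal A ^ 2 := by
    refine ⟨by simpa using hxm _, fun h => ?_⟩
    have := hqr (n := 1) (X i₀) (isHomogeneous_X _ _) (by simpa using h) (Finsupp.single i₀ 1)
    simp [coeff_X] at this
  have hxN : ∀ N : ℕ, x i₀ ^ N ∈ maximalIdeal A ^ N ∧ x i₀ ^ N ∉ maximalIdeal A ^ (N + 1) := by
    intro N
    induction N with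
    | zero => simpa using (maximalIdeal.isMaximal A).ne_top ∘ (Ideal.eq_top_iff_one _).mpr
    | succ N ih =>
      rw [pow_succ (x i₀)]
      exact ⟨pow_succ (maximalIdeal A) N ▸ Ideal.mul_mem_mul ih.1 (by simpa using hx0.1),
        mul_notMem_pow ih.1 ih.2 hx0.1 hx0.2⟩
  let V := ring A
  let K := FractionRing A
  let ι' : A →+* K := algebraMap A K
  -- non units
  have hnu : ∀ {z : V}, ¬ IsUnit z → ∀ n a b, b ∈ maximalIdeal A ^ n → b ∉ maximalIdeal A ^ (n + 1) →
      a ∈ maximalIdeal A ^ n → (z : K) * ι' b = ι' a → a ∈ maximalIdeal A ^ (n + 1) := by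
    intro z hz n a b hb hb' ha h
    by_contra ha'
    exact hz (isUnit_of hb hb' ha ha' h)
  have hunit : ∀ {z : V} n a b, b ∈ maximalIdeal A ^ n → b ∉ maximalIdeal A ^ (n + 1) →
      a ∈ maximalIdeal A ^ (n + 1) → (z : K) * ι' b = ι' a → ¬ IsUnit z := by
    intro z n a b hb hb' ha h hu
    obtain ⟨w, hw⟩ := isUnit_iff_exists_inv.mp hu
    obtain ⟨n', a', b', ha', hb1, hb2, e⟩ := w.2
    have h1 : ι' (a * a') = ι' (b * b') := by
      rw [map_mul, map_mul, ← h, ← e]
      have hw' : (z : K) * (w : K) = 1 := congrArg Subtype.val hw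
      linear_combination (ι' b * ι' b') * hw'
    have h2 := IsFractionRing.injective A K h1
    apply mul_notMem_pow hb hb' hb1 hb2
    rw [← h2, show n + n' + 1 = n + 1 + n' by omega, pow_add]
    exact Ideal.mul_mem_mul ha ha'
  let π : V := algebraMap A V (x i₀)
  have hπ : ¬ IsUnit π := hunit 0 (x i₀) 1 (by simp) (by simpa using (maximalIdeal.isMaximal A).ne_top ∘ (Ideal.eq_top_iff_one _).mpr)
    (by simpa using hxm _) (by simp [π, ι']; rfl)
  have hK0 : ∀ N, ι' (x i₀) ^ N ≠ 0 := fun N => by
    rw [← map_pow]; exact algebraMap_ne (hxN N).2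
  -- factorization
  have hfac : ∀ z : V, z ≠ 0 → ∃ (k : ℕ) (u : V), IsUnit u ∧ z = u * π ^ k := by
    intro z hz
    obtain ⟨n, a, b, ha, hb, hb', e⟩ := z.2
    have ha0 : a ≠ 0 := by
      rintro rfl
      rw [map_zero, mul_eq_zero] at e
      exact hz (Subtype.ext (e.resolve_right (algebraMap_ne hb')))
    obtain ⟨N, hN, hN'⟩ := exists_ord ha0
    have hnN := ord_le ha hN'
    obtain ⟨k, rfl⟩ := Nat.exists_eq_add_of_le hnN
    have h1 := (hxN k)
    have hb2 : b * x i₀ ^ k ∈ maximalIdeal A ^ (n + k) := pow_add (maximalIdeal A) n k ▸ Ideal.mul_mem_mul hb h1.1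
    have hb3 := mul_notMem_pow hb hb' h1.1 h1.2
    have hne := algebraMap_ne hb3
    let u : V := ⟨ι' a / ι' (b * x i₀ ^ k), n + k, a, b * x i₀ ^ k, hN, hb2, hb3, div_mul_cancel₀ _ hne⟩
    refine ⟨k, u, isUnit_of hb2 hb3 hN hN' (div_mul_cancel₀ _ hne), Subtype.ext ?_⟩
    show (z : K) = (ι' a / ι' (b * x i₀ ^ k)) * ((π ^ k : V) : K)
    rw [SubmonoidClass.coe_pow, show (π : K) = ι' (x i₀) from rfl, ← map_pow, div_mul_eq_mul_div,
      eq_div_iff hne, map_mul, ← mul_assoc, e]
  haveI : IsDomain V := inferInstance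
  have hdvr : IsDiscreteValuationRing V := by
    refine IsDiscreteValuationRing.ofHasUnitMulPowIrreducibleFactorization ⟨π, ⟨hπ, ?_⟩, fun {z} hz => ?_⟩
    · intro y w hyw
      by_contra h
      push Not at h
      obtain ⟨n, a, b, ha, hb, hb', e⟩ := y.2
      obtain ⟨n', a', b', ha', hb1, hb2, e'⟩ := w.2
      have h1 := hnu h.1 n a b hb hb' ha e
      have h2 := hnu h.2 n' a' b' hb1 hb2 ha' e'
      have h3 : ι' (x i₀ * (b * b')) = ι' (a * a') := by
        rw [map_mul, map_mul, map_mul, ← e, ← e', show ι' (x i₀) = (π : K) from rfl, hyw]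
        show (y : K) * (w : K) * _ = _
        ring
      have h4 : x i₀ * (b * b') ∉ maximalIdeal A ^ (1 + (n + n') + 1) :=
        mul_notMem_pow hx0.1 hx0.2 (pow_add (maximalIdeal A) n n' ▸ Ideal.mul_mem_mul hb hb1)
          (mul_notMem_pow hb hb' hb1 hb2)
      apply h4
      rw [IsFractionRing.injective A K h3, show 1 + (n + n') + 1 = (n + 1) + (n' + 1) by omega, pow_add]
      exact Ideal.mul_mem_mul h1 h2
    · obtain ⟨k, u, hu, rfl⟩ := hfac z hz
      exact ⟨k, hu.unit, by rw [mul_comm]; rfl⟩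
  haveI := hdvr
  have hfrac : IsFractionRing V K := by
    refine IsFractionRing.of_field V K fun z => ?_
    obtain ⟨a, b, hb, rfl⟩ := IsFractionRing.div_surjective (A := A) z
    exact ⟨algebraMap A V a, algebraMap A V b, rfl⟩
  have hcomap : (maximalIdeal V).comap (algebraMap A V) = maximalIdeal A := by
    ext a
    rw [Ideal.mem_comap, mem_maximalIdeal, mem_nonunits_iff]
    refine ⟨fun h => ?_, fun h => ?_⟩
    · by_contra ha
      exact h ((notMem_maximalIdeal.mp ha).map _)
    · exact hunit 0 a 1 (by simp) (by simpa using (maximalIdeal.isMaximal A).ne_top ∘ (Ideal.eq_top_iff_one _).mpr)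
        (by simpa using h) (by simp [ι']; rfl)
  let φ : ResidueField A →+* ResidueField V :=
    Ideal.Quotient.lift (maximalIdeal A) ((residue V).comp (algebraMap A V)) fun a ha => by
      rw [← hcomap] at ha
      exact (residue_eq_zero_iff _).mpr ha
  refine ⟨inferInstance, hdvr, hfrac, hcomap, φ, Ideal.Quotient.lift_comp_mk _ _ _, ?_⟩
  letI := φ.toAlgebra
  have hφ : ∀ a : A, algebraMap (ResidueField A) (ResidueField V) (residue A a) =
      residue V (algebraMap A V a) := fun a => rfl
  -- the coordinates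
  have hcoord : ∀ i, ι' (x i) / ι' (x i₀) ∈ V := fun i =>
    ⟨1, x i, x i₀, by simpa using hxm i, hx0.1, hx0.2, div_mul_cancel₀ _ (by simpa using hK0 1)⟩
  let q : Fin l.length → V := fun i => ⟨_, hcoord i⟩
  let ι₁ := {i : Fin l.length // i ≠ i₀}
  let t : ULift.{u} ι₁ → ResidueField V := fun i => residue V (q i.down.1)
  have hq : ∀ {n : ℕ} (F : MvPolynomial (Fin l.length) A), F.IsHomogeneous n →
      ((MvPolynomial.aeval q F : V) : K) * ι' (x i₀) ^ n = ι' (eval x F) := by
    intro n F hF
    have h1 : ((MvPolynomial.aeval q F : V) : K) = MvPolynomial.aeval (fun i => ι' (x i) / ι' (x i₀)) F := by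
      show V.val (MvPolynomial.aeval q F) = _
      rw [← AlgHom.comp_apply, MvPolynomial.comp_aeval]; rfl
    rw [h1, MvPolynomial.aeval_def, eval₂_eq, eval_eq, map_sum, Finset.sum_mul]
    refine Finset.sum_congr rfl fun m hm => ?_
    have hdeg : ∑ i ∈ m.support, m i = n := by
      simpa [Finsupp.weight_apply, Finsupp.sum] using hF (MvPolynomial.mem_support_iff.mp hm)
    rw [← hdeg, ← Finset.prod_pow_eq_pow_sum, map_mul, map_prod, mul_assoc, ← Finset.prod_mul_distrib]
    refine congrArg _ (Finset.prod_congr rfl fun i _ => ?_)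
    rw [div_pow, div_mul_cancel₀ _ (hK0 _), map_pow]
  refine ⟨ULift.{u} ι₁, t, ?_, ?_⟩
  · rw [algebraicIndependent_iff]
    intro P hP
    obtain ⟨Q, rfl⟩ := MvPolynomial.map_surjective (residue A) residue_surjective P
    by_contra hne
    obtain ⟨m₀, hm₀⟩ := MvPolynomial.exists_coeff_ne_zero hne
    rw [coeff_map] at hm₀
    let N := Q.totalDegree
    let em : ((ULift.{u} ι₁) →₀ ℕ) → (Fin l.length →₀ ℕ) := fun m =>
      m.mapDomain (fun i => i.down.1) + Finsupp.single i₀ (N - m.degree)
    let H : MvPolynomial (Fin l.length) A := ∑ m ∈ Q.support, monomial (em m) (Q.coeff m)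
    have hem : ∀ m i, (em m) (i : ι₁).1 = m ⟨i⟩ := fun m i => by
      simp only [em, Finsupp.add_apply, Finsupp.single_eq_of_ne i.2, add_zero]
      exact Finsupp.mapDomain_apply (fun a b h => ULift.ext _ _ (Subtype.ext h)) m ⟨i⟩
    have hdeg : ∀ m, Q.coeff m ≠ 0 → m.degree ≤ N := fun m hm => by
      simpa [N, Finsupp.degree, Finsupp.sum] using le_totalDegree (MvPolynomial.mem_support_iff.mpr hm)
    have hH : H.IsHomogeneous N := IsHomogeneous.sum _ _ _ fun m hm => isHomogeneous_monomial _ (by
      have := hdeg m (MvPolynomial.mem_support_iff.mp hm)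
      simp only [em, map_add, Finsupp.degree_mapDomain, Finsupp.degree_single]
      omega)
    have hres : (residue V).comp (MvPolynomial.aeval q).toRingHom = (MvPolynomial.eval₂Hom
        ((residue V).comp (algebraMap A V)) (fun i => residue V (q i))) := by
      refine ringHom_ext (fun a => ?_) fun i => ?_ <;> simp
    have hzero : residue V (MvPolynomial.aeval q H) = 0 := by
      show ((residue V).comp (MvPolynomial.aeval q).toRingHom) H = 0
      rw [hres, ← hP, MvPolynomial.aeval_def, eval₂_map, eval₂_eq, map_sum]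
      refine Finset.sum_congr rfl fun m _ => ?_
      rw [eval₂Hom_monomial, Finsupp.prod_add_index' (by simp) (by simp [pow_add]),
        Finsupp.prod_mapDomain_index (by simp) (by simp [pow_add]), Finsupp.prod_single_index (by simp),
        show residue V (q i₀) = 1 by
          rw [show q i₀ = 1 from Subtype.ext (div_self (by simpa using hK0 1)), map_one],
        one_pow, mul_one]
      rfl
    have hnot : ¬ IsUnit (MvPolynomial.aeval q H) := (residue_eq_zero_iff _).mp hzero
    have hHm := hnu hnot N (eval x H) (x i₀ ^ N) (hxN N).1 (hxN N).2 (eval_mem_pow x _ hxm H hH)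
      (by rw [map_pow]; exact hq H hH)
    have := hqr H hH hHm (em m₀)
    rw [show H.coeff (em m₀) = Q.coeff m₀ by
      simp only [H, coeff_sum, coeff_monomial]
      rw [Finset.sum_eq_single m₀ (fun m hm hne => if_neg fun h => hne ?_)]
      · simp
      · intro hm; simp [MvPolynomial.notMem_support_iff.mp hm]
      · ext i
        have := Finsupp.ext_iff.mp h i.down.1
        rwa [hem m i.down, hem m₀ i.down] at this] at this
    exact hm₀ ((residue_eq_zero_iff _).mpr this)
  · rw [_root_.eq_top_iff]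
    rintro y -
    obtain ⟨z, rfl⟩ := residue_surjective (R := V) y
    let L := IntermediateField.adjoin (ResidueField A) (Set.range t)
    have hmem : ∀ F : MvPolynomial (Fin l.length) A, residue V (MvPolynomial.aeval q F) ∈ L := by
      intro F
      induction F using MvPolynomial.induction_on with
      | C a => rw [MvPolynomial.aeval_C, ← hφ]; exact L.algebraMap_mem _
      | add p r hp hr => rw [map_add, map_add]; exact L.add_mem hp hr
      | mul_X p i hp =>
        rw [map_mul, map_mul, MvPolynomial.aeval_X]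
        refine L.mul_mem hp ?_
        by_cases hi : i = i₀
        · rw [hi, show q i₀ = 1 from Subtype.ext (div_self (by simpa using hK0 1)), map_one]
          exact L.one_mem
        · exact IntermediateField.subset_adjoin _ _ ⟨⟨⟨i, hi⟩⟩, rfl⟩
    obtain ⟨n, a, b, ha, hb, hb', e⟩ := z.2
    obtain ⟨F, hF, rfl⟩ := exists_form x n a (hspan.symm ▸ ha)
    obtain ⟨G, hG, rfl⟩ := exists_form x n b (hspan.symm ▸ hb)
    have hunitG : IsUnit (MvPolynomial.aeval q G) :=
      isUnit_of (hxN n).1 (hxN n).2 hb hb' (by rw [map_pow]; exact hq G hG)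
    have hzz : z * MvPolynomial.aeval q G = MvPolynomial.aeval q F := by
      refine Subtype.ext (mul_right_cancel₀ (hK0 n) ?_)
      rw [hq F hF, MulMemClass.coe_mul, mul_assoc, hq G hG]
      exact e
    have hne : residue V (MvPolynomial.aeval q G) ≠ 0 := fun h => (residue_eq_zero_iff _).mp h hunitG
    have : residue V z = residue V (MvPolynomial.aeval q F) / residue V (MvPolynomial.aeval q G) := by
      rw [eq_div_iff hne, ← map_mul, hzz]
    rw [this]
    exact L.div_mem (hmem F) (hmem G)

end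

end Groth.Agent.OrdVal
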